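import Mathlib
import Cfsg.Agent.Lib.CosetEnum.Split

/-! Certified coset enumerations for a presentation of U4(2) (generated). -/

set_option maxRecDepth 100000
set_option Elab.async false

namespace CfsgLib.SuzRec

open CfsgLib.CosetEnum

def rels4 : List (List ℕ) := [[0, 0, 0],
  [2, 2, 2],
  [4, 4, 4],
  [6, 6, 6],
  [0, 2, 0, 3, 1, 3],
  [2, 4, 2, 5, 3, 5],
  [4, 6, 4, 7, 5, 7],
  [0, 4, 1, 5],
  [0, 6, 1, 7],
  [2, 6, 3, 7],
  [0, 2, 4, 6, 0, 2, 4, 6, 0, 2, 4, 6, 0, 2, 4, 6, 0, 2, 4, 6, 0, 2, 4, 6, 0, 2, 4, 6, 0, 2, 4, 6, 0, 2, 4, 6, 0, 2, 4, 6],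
  [0, 5, 3, 0, 3, 4, 3, 4, 7, 4, 2, 7, 0, 5, 3, 0, 3, 4, 3, 4, 7, 4, 2, 7]]

def R0_nets_n0_0 : ℕ := (nat_lit 0x1)
def R0_nets_n0_1 : ℕ := (nat_lit 0x1)
def R0_nets_n0 : Net :=
  (Net.cons R0_nets_n0_0 (nat_lit 1) (Net.cons R0_nets_n0_1 (nat_lit 2) Net.nil))
def R0_nets : List Net := [R0_nets_n0, Net.nil, Net.nil, Net.nil]
def R0_rels : List (List ℕ) := [[0, 0, 0]]
theorem R0_nets_ok : allL (Net.ok 3) R0_nets = true := by decide +kernel
theorem R0_rel_s0 : relsAt R0_nets 3 2 (List.range' 0 2) (sqW [] ++ R0_rels) = true := by decide +kernel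
theorem R0_rel : ∀ w ∈ (sqW [] ++ R0_rels), ev (netGen R0_nets) w = 1 :=
  SlicesOk.rel (K := 2) ((SlicesOk.zero _ _ _ _).step 2 R0_rel_s0)
    R0_nets_ok (by norm_num)
theorem R0_model : Model 3 R0_nets (imOf []) R0_rels := Model.of_rel R0_nets_ok R0_rel
def R0_t : Tr := (Tr.node (Tr.node Tr.leaf [1] 0 0 0 Tr.leaf) [0] 0 0 0 Tr.leaf)
def R0_m0 : ℕ := (nat_lit 0x4)
def R0_m1 : ℕ := (nat_lit 0x2)
def R0_p0 : List ℕ := [nat_lit 0x1002001003,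
  nat_lit 0x1001001001001]
noncomputable def R0 : CE where
  p0 := 0
  F := (Nat.sub (Nat.shiftLeft 1 3) 1)
  masks := [R0_m0, R0_m1]
  gprog := [0, 1]
  cprog := []
  sids := []
  t0 := R0_t
  s := 12
  progs := [R0_p0]
  O := (Nat.sub (Nat.shiftLeft 1 3) 1)
  yids := [0]
theorem R0_chk : ∃ progs, CE.check { R0 with progs := progs } R0_nets (imOf []) R0_rels [] [[0]] = true :=
  ⟨R0.progs, by decide +kernel⟩
theorem R0_idx {Γ : Type*} [Group Γ] {g : ℕ → Γ} (hi : InvOk g (imOf [])) (hr : ∀ r ∈ R0_rels, ev g r = 1)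
    {H : Subgroup Γ} (hs : ∀ u ∈ ([] : List (List ℕ)), ev g u ∈ H) :
    H.relIndex (gen g [[0]]) ≠ 0 ∧ H.relIndex (gen g [[0]]) ≤ 3 :=
  Reach.relIndex_le R0_model hi hr hs R0_chk (by decide +kernel)

def R1_nets_n0_0 : ℕ := (nat_lit 0x12)
def R1_nets_n0_1 : ℕ := (nat_lit 0x12)
def R1_nets_n1_0 : ℕ := (nat_lit 0x54)
def R1_nets_n1_1 : ℕ := (nat_lit 0x10)
def R1_nets_n1_2 : ℕ := (nat_lit 0x6)
def R1_nets_n1_3 : ℕ := (nat_lit 0x55)
def R1_nets_n0 : Net :=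
  (Net.cons R1_nets_n0_0 (nat_lit 1) (Net.cons R1_nets_n0_1 (nat_lit 2) Net.nil))
def R1_nets_n1 : Net :=
  (Net.cons R1_nets_n1_0 (nat_lit 1) (Net.cons R1_nets_n1_1 (nat_lit 2) (Net.cons R1_nets_n1_2 (nat_lit 4) (Net.cons R1_nets_n1_3 (nat_lit 1) Net.nil))))
def R1_nets : List Net := [R1_nets_n0, R1_nets_n1, Net.nil, Net.nil]
def R1_rels : List (List ℕ) := [[0, 0, 0],
  [2, 2, 2],
  [0, 2, 0, 3, 1, 3]]
theorem R1_nets_ok : allL (Net.ok 8) R1_nets = true := by decide +kernel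
theorem R1_rel_s0 : relsAt R1_nets 8 3 (List.range' 0 3) (sqW [] ++ R1_rels) = true := by decide +kernel
theorem R1_rel : ∀ w ∈ (sqW [] ++ R1_rels), ev (netGen R1_nets) w = 1 :=
  SlicesOk.rel (K := 3) ((SlicesOk.zero _ _ _ _).step 3 R1_rel_s0)
    R1_nets_ok (by norm_num)
theorem R1_model : Model 8 R1_nets (imOf []) R1_rels := Model.of_rel R1_nets_ok R1_rel
def R1_t : Tr := (Tr.node (Tr.node (Tr.node Tr.leaf [3] 0 0 0 Tr.leaf) [2] 0 0 0 Tr.leaf) [0] 0 0 0 (Tr.node Tr.leaf [1] 0 0 0 Tr.leaf))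
def R1_m0 : ℕ := (nat_lit 0x48)
def R1_m1 : ℕ := (nat_lit 0x10)
def R1_m2 : ℕ := (nat_lit 0x24)
def R1_m3 : ℕ := (nat_lit 0x82)
def R1_p0 : List ℕ := [nat_lit 0x1004001005,
  nat_lit 0x1004003007,
  nat_lit 0x1001001001001,
  nat_lit 0x3001002003003,
  nat_lit 0x1003002004008003003002,
  nat_lit 0x1004002004005003003001,
  nat_lit 0x200400200300c003003001,
  nat_lit 0x3001002003003,
  nat_lit 0x3001004002007003001004]
noncomputable def R1 : CE where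
  p0 := 0
  F := (Nat.sub (Nat.shiftLeft 1 8) 1)
  masks := [R1_m0, R1_m1, R1_m2, R1_m3]
  gprog := [1, 2, 3, 0, 2, 3]
  cprog := []
  sids := [0]
  t0 := R1_t
  s := 12
  progs := [R1_p0]
  O := (Nat.sub (Nat.shiftLeft 1 8) 1)
  yids := [0, 1]
theorem R1_chk : ∃ progs, CE.check { R1 with progs := progs } R1_nets (imOf []) R1_rels [[0]] [[0], [2]] = true :=
  ⟨R1.progs, by decide +kernel⟩
theorem R1_idx {Γ : Type*} [Group Γ] {g : ℕ → Γ} (hi : InvOk g (imOf [])) (hr : ∀ r ∈ R1_rels, ev g r = 1)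
    {H : Subgroup Γ} (hs : ∀ u ∈ ([[0]] : List (List ℕ)), ev g u ∈ H) :
    H.relIndex (gen g [[0], [2]]) ≠ 0 ∧ H.relIndex (gen g [[0], [2]]) ≤ 8 :=
  Reach.relIndex_le R1_model hi hr hs R1_chk (by decide +kernel)

def R2_nets_n0_0 : ℕ := (nat_lit 0xa80404)
def R2_nets_n0_1 : ℕ := (nat_lit 0x204040)
def R2_nets_n0_2 : ℕ := (nat_lit 0xc0404)
def R2_nets_n0_3 : ℕ := (nat_lit 0x808)
def R2_nets_n0_4 : ℕ := (nat_lit 0xaa1414)
def R2_nets_n1_0 : ℕ := (nat_lit 0x240202)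
def R2_nets_n1_1 : ℕ := (nat_lit 0x242222)
def R2_nets_n1_2 : ℕ := (nat_lit 0x2020)
def R2_nets_n2_0 : ℕ := (nat_lit 0x545400)
def R2_nets_n2_1 : ℕ := (nat_lit 0x20020)
def R2_nets_n2_2 : ℕ := (nat_lit 0x50402)
def R2_nets_n2_3 : ℕ := (nat_lit 0x10000)
def R2_nets_n2_4 : ℕ := (nat_lit 0x54a)
def R2_nets_n2_5 : ℕ := (nat_lit 0x7002a)
def R2_nets_n2_6 : ℕ := (nat_lit 0x50700)
def R2_nets_n2_7 : ℕ := (nat_lit 0x20020)
def R2_nets_n2_8 : ℕ := (nat_lit 0x505441)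
def R2_nets_n0 : Net :=
  (Net.cons R2_nets_n0_0 (nat_lit 1) (Net.cons R2_nets_n0_1 (nat_lit 2) (Net.cons R2_nets_n0_2 (nat_lit 4) (Net.cons R2_nets_n0_3 (nat_lit 2) (Net.cons R2_nets_n0_4 (nat_lit 1) Net.nil)))))
def R2_nets_n1 : Net :=
  (Net.cons R2_nets_n1_0 (nat_lit 1) (Net.cons R2_nets_n1_1 (nat_lit 2) (Net.cons R2_nets_n1_2 (nat_lit 1) Net.nil)))
def R2_nets_n2 : Net :=
  (Net.cons R2_nets_n2_0 (nat_lit 1) (Net.cons R2_nets_n2_1 (nat_lit 2) (Net.cons R2_nets_n2_2 (nat_lit 4) (Net.cons R2_nets_n2_3 (nat_lit 8) (Net.cons R2_nets_n2_4 (nat_lit 16) (Net.cons R2_nets_n2_5 (nat_lit 8) (Net.cons R2_nets_n2_6 (nat_lit 4) (Net.cons R2_nets_n2_7 (nat_lit 2) (Net.cons R2_nets_n2_8 (nat_lit 1) Net.nil)))))))))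
def R2_nets : List Net := [R2_nets_n0, R2_nets_n1, R2_nets_n2, Net.nil]
def R2_rels : List (List ℕ) := [[0, 0, 0],
  [2, 2, 2],
  [4, 4, 4],
  [0, 2, 0, 3, 1, 3],
  [2, 4, 2, 5, 3, 5],
  [0, 4, 1, 5]]
theorem R2_nets_ok : allL (Net.ok 27) R2_nets = true := by decide +kernel
theorem R2_rel_s0 : relsAt R2_nets 27 5 (List.range' 0 5) (sqW [] ++ R2_rels) = true := by decide +kernel
theorem R2_rel : ∀ w ∈ (sqW [] ++ R2_rels), ev (netGen R2_nets) w = 1 :=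
  SlicesOk.rel (K := 5) ((SlicesOk.zero _ _ _ _).step 5 R2_rel_s0)
    R2_nets_ok (by norm_num)
theorem R2_model : Model 27 R2_nets (imOf []) R2_rels := Model.of_rel R2_nets_ok R2_rel
def R2_t : Tr := (Tr.node (Tr.node (Tr.node Tr.leaf [1] 0 0 0 Tr.leaf) [2] 0 0 0 (Tr.node Tr.leaf [5] 0 0 0 Tr.leaf)) [0] 0 0 0 (Tr.node (Tr.node Tr.leaf [3] 0 0 0 Tr.leaf) [4] 0 0 0 Tr.leaf))
def R2_m0 : ℕ := (nat_lit 0x12120)
def R2_m1 : ℕ := (nat_lit 0x900808)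
def R2_m2 : ℕ := (nat_lit 0x4080200)
def R2_m3 : ℕ := (nat_lit 0x1005050)
def R2_m4 : ℕ := (nat_lit 0x408484)
def R2_m5 : ℕ := (nat_lit 0x2260002)
def R2_p0 : List ℕ := [nat_lit 0x1007001007,
  nat_lit 0x1007003009,
  nat_lit 0x100700500b,
  nat_lit 0x1001001001001,
  nat_lit 0x3001002003003,
  nat_lit 0x5002006006001006,
  nat_lit 0x5001003005005,
  nat_lit 0x5002006006001006,
  nat_lit 0x1003002004008004003002,
  nat_lit 0x2003001003004004004002,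
  nat_lit 0x200400200300c004003001,
  nat_lit 0x3005004006008005005004,
  nat_lit 0x3006004006005005005003,
  nat_lit 0x400600400500c005005003,
  nat_lit 0x3001002003003,
  nat_lit 0x1006005006005002,
  nat_lit 0x2006008006005001,
  nat_lit 0x3001004002007004001004,
  nat_lit 0x5001003005005,
  nat_lit 0x6004006003003005003005,
  nat_lit 0x6002003006001005,
  nat_lit 0x5003006004007005003006,
  nat_lit 0x400600400500c005005003,
  nat_lit 0x5002006006001006,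
  nat_lit 0x3001002003003,
  nat_lit 0x1006005006005002,
  nat_lit 0x4002004001003004001003,
  nat_lit 0x1001001001001,
  nat_lit 0x1003002004008004003002]
noncomputable def R2 : CE where
  p0 := 0
  F := (Nat.sub (Nat.shiftLeft 1 27) 1)
  masks := [R2_m0, R2_m1, R2_m2, R2_m3, R2_m4, R2_m5]
  gprog := [2, 4, 5, 0, 1, 3, 4, 5, 0, 1, 2, 3, 4, 5, 1, 2, 4]
  cprog := []
  sids := [0, 1]
  t0 := R2_t
  s := 12
  progs := [R2_p0]
  O := (Nat.sub (Nat.shiftLeft 1 27) 1)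
  yids := [0, 1, 2]
theorem R2_chk : ∃ progs, CE.check { R2 with progs := progs } R2_nets (imOf []) R2_rels [[0], [2]] [[0], [2], [4]] = true :=
  ⟨R2.progs, by decide +kernel⟩
theorem R2_idx {Γ : Type*} [Group Γ] {g : ℕ → Γ} (hi : InvOk g (imOf [])) (hr : ∀ r ∈ R2_rels, ev g r = 1)
    {H : Subgroup Γ} (hs : ∀ u ∈ ([[0], [2]] : List (List ℕ)), ev g u ∈ H) :
    H.relIndex (gen g [[0], [2], [4]]) ≠ 0 ∧ H.relIndex (gen g [[0], [2], [4]]) ≤ 27 :=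
  Reach.relIndex_le R2_model hi hr hs R2_chk (by decide +kernel)

def R3_nets_n0_0 : ℕ := (nat_lit 0x2202a80000)
def R3_nets_n0_1 : ℕ := (nat_lit 0x2001081180)
def R3_nets_n0_2 : ℕ := (nat_lit 0x120401008)
def R3_nets_n0_3 : ℕ := (nat_lit 0x60080050)
def R3_nets_n0_4 : ℕ := (nat_lit 0xa50)
def R3_nets_n0_5 : ℕ := (nat_lit 0x480)
def R3_nets_n0_6 : ℕ := (nat_lit 0x20604048)
def R3_nets_n0_7 : ℕ := (nat_lit 0x2061099190)
def R3_nets_n0_8 : ℕ := (nat_lit 0x20a2a80000)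
def R3_nets_n1_0 : ℕ := (nat_lit 0x10002424)
def R3_nets_n1_1 : ℕ := (nat_lit 0x1210482424)
def R3_nets_n1_2 : ℕ := (nat_lit 0x1200480000)
def R3_nets_n2_0 : ℕ := (nat_lit 0x40a8a8)
def R3_nets_n2_1 : ℕ := (nat_lit 0x2020002020)
def R3_nets_n2_2 : ℕ := (nat_lit 0x60240c0c)
def R3_nets_n2_3 : ℕ := (nat_lit 0x40000000)
def R3_nets_n2_4 : ℕ := (nat_lit 0x100144aaaa)
def R3_nets_n3_0 : ℕ := (nat_lit 0x140151400)
def R3_nets_n3_1 : ℕ := (nat_lit 0x23000000)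
def R3_nets_n3_2 : ℕ := (nat_lit 0x401000c00)
def R3_nets_n3_3 : ℕ := (nat_lit 0xc00020)
def R3_nets_n3_4 : ℕ := (nat_lit 0x21b6)
def R3_nets_n3_5 : ℕ := (nat_lit 0x36)
def R3_nets_n3_6 : ℕ := (nat_lit 0x76)
def R3_nets_n3_7 : ℕ := (nat_lit 0xc600c2)
def R3_nets_n3_8 : ℕ := (nat_lit 0x400040c00)
def R3_nets_n3_9 : ℕ := (nat_lit 0x1013300120)
def R3_nets_n3_10 : ℕ := (nat_lit 0x150151001)
def R3_nets_n0 : Net :=
  (Net.cons R3_nets_n0_0 (nat_lit 1) (Net.cons R3_nets_n0_1 (nat_lit 2) (Net.cons R3_nets_n0_2 (nat_lit 4) (Net.cons R3_nets_n0_3 (nat_lit 8) (Net.cons R3_nets_n0_4 (nat_lit 16) (Net.cons R3_nets_n0_5 (nat_lit 8) (Net.cons R3_nets_n0_6 (nat_lit 4) (Net.cons R3_nets_n0_7 (nat_lit 2) (Net.cons R3_nets_n0_8 (nat_lit 1) Net.nil)))))))))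
def R3_nets_n1 : Net :=
  (Net.cons R3_nets_n1_0 (nat_lit 1) (Net.cons R3_nets_n1_1 (nat_lit 2) (Net.cons R3_nets_n1_2 (nat_lit 1) Net.nil)))
def R3_nets_n2 : Net :=
  (Net.cons R3_nets_n2_0 (nat_lit 1) (Net.cons R3_nets_n2_1 (nat_lit 2) (Net.cons R3_nets_n2_2 (nat_lit 4) (Net.cons R3_nets_n2_3 (nat_lit 2) (Net.cons R3_nets_n2_4 (nat_lit 1) Net.nil)))))
def R3_nets_n3 : Net :=
  (Net.cons R3_nets_n3_0 (nat_lit 1) (Net.cons R3_nets_n3_1 (nat_lit 2) (Net.cons R3_nets_n3_2 (nat_lit 4) (Net.cons R3_nets_n3_3 (nat_lit 8) (Net.cons R3_nets_n3_4 (nat_lit 16) (Net.cons R3_nets_n3_5 (nat_lit 32) (Net.cons R3_nets_n3_6 (nat_lit 16) (Net.cons R3_nets_n3_7 (nat_lit 8) (Net.cons R3_nets_n3_8 (nat_lit 4) (Net.cons R3_nets_n3_9 (nat_lit 2) (Net.cons R3_nets_n3_10 (nat_lit 1) Net.nil)))))))))))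
def R3_nets : List Net := [R3_nets_n0, R3_nets_n1, R3_nets_n2, R3_nets_n3]
def R3_rels : List (List ℕ) := [[0, 0, 0],
  [2, 2, 2],
  [4, 4, 4],
  [6, 6, 6],
  [0, 2, 0, 3, 1, 3],
  [2, 4, 2, 5, 3, 5],
  [4, 6, 4, 7, 5, 7],
  [0, 4, 1, 5],
  [0, 6, 1, 7],
  [2, 6, 3, 7],
  [0, 2, 4, 6, 0, 2, 4, 6, 0, 2, 4, 6, 0, 2, 4, 6, 0, 2, 4, 6, 0, 2, 4, 6, 0, 2, 4, 6, 0, 2, 4, 6, 0, 2, 4, 6, 0, 2, 4, 6],
  [0, 5, 3, 0, 3, 4, 3, 4, 7, 4, 2, 7, 0, 5, 3, 0, 3, 4, 3, 4, 7, 4, 2, 7]]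
theorem R3_nets_ok : allL (Net.ok 40) R3_nets = true := by decide +kernel
theorem R3_rel_s0 : relsAt R3_nets 40 6 (List.range' 0 6) (sqW [] ++ R3_rels) = true := by decide +kernel
theorem R3_rel : ∀ w ∈ (sqW [] ++ R3_rels), ev (netGen R3_nets) w = 1 :=
  SlicesOk.rel (K := 6) ((SlicesOk.zero _ _ _ _).step 6 R3_rel_s0)
    R3_nets_ok (by norm_num)
theorem R3_model : Model 40 R3_nets (imOf []) R3_rels := Model.of_rel R3_nets_ok R3_rel
def R3_t : Tr := (Tr.node (Tr.node (Tr.node (Tr.node (Tr.node (Tr.node Tr.leaf [3] 4 2 0 Tr.leaf) [4] 1 1 0 (Tr.node Tr.leaf [1] 6 6 0 Tr.leaf)) [7] 0 0 0 (Tr.node (Tr.node Tr.leaf [2] 1 4 0 Tr.leaf) [7] 5 2 0 Tr.leaf)) [6] 0 0 0 (Tr.node (Tr.node (Tr.node Tr.leaf [7] 4 2 0 Tr.leaf) [2] 0 3 0 (Tr.node Tr.leaf [] 1 0 0 Tr.leaf)) [5] 0 4 0 (Tr.node (Tr.node Tr.leaf [7] 6 4 0 Tr.leaf) [4] 3 0 0 Tr.leaf))) [2] 0 0 0 (Tr.node (Tr.node (Tr.node (Tr.node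 Tr.leaf [2] 5 5 0 Tr.leaf) [3] 1 1 0 (Tr.node Tr.leaf [3] 8 6 0 Tr.leaf)) [1] 0 1 0 (Tr.node (Tr.node Tr.leaf [2] 4 1 0 Tr.leaf) [] 3 0 0 Tr.leaf)) [3] 0 0 0 (Tr.node (Tr.node (Tr.node Tr.leaf [4] 3 3 0 Tr.leaf) [7] 1 1 0 Tr.leaf) [1] 1 3 0 (Tr.node (Tr.node Tr.leaf [6] 7 4 0 Tr.leaf) [2] 3 1 0 Tr.leaf)))) [0] 0 0 0 (Tr.node (Tr.node (Tr.node (Tr.node (Tr.node Tr.leaf [0] 5 5 0 Tr.leaf) [4] 2 0 0 (Tr.node Tr.leaf [7] 4 8 0 Tr.leaf)) [0] 0 3 0 (Tr.node (Tr.node Tr.leaf [0] 4 4 0 Tr.leaf) [4] 1 0 0 Tr.leaf)) [1] 0 0 0 (Tr.node (Tr.node (Tr.node Tr.leaf [0] 4 0 0 Tr.leaf) [7] 2 6 0 Tr.leaf) [7] 0 5 0 (Tr.node (Tr.node Tr.leaf [6] 2 7 0 Tr.leaf) [3] 3 3 0 Tr.leaf))) [4] 0 0 0 (Tr.node (Tr.node (Tr.node (Tr.node Tr.leaf [5] 4 0 0 Tr.leaf) [6] 3 3 0 (Tr.node Tr.leaf [4] 8 5 0 Tr.leaf)) [4] 0 2 0 (Tr.node (Tr.node Tr.leaf [6] 4 2 0 Tr.leaf) [1] 1 0 0 Tr.leaf)) [5] 0 0 0 (Tr.node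 (Tr.node (Tr.node Tr.leaf [3] 3 1 0 Tr.leaf) [7] 2 0 0 Tr.leaf) [5] 3 0 0 (Tr.node (Tr.node Tr.leaf [5] 7 5 0 Tr.leaf) [1] 2 2 0 Tr.leaf)))))
def R3_m0 : ℕ := (nat_lit 0x44c0000)
def R3_m1 : ℕ := (nat_lit 0x9090)
def R3_m2 : ℕ := (nat_lit 0x8202002020)
def R3_m3 : ℕ := (nat_lit 0x80000200)
def R3_m4 : ℕ := (nat_lit 0x8930000)
def R3_m5 : ℕ := (nat_lit 0x801204848)
def R3_m6 : ℕ := (nat_lit 0x400000504)
def R3_m7 : ℕ := (nat_lit 0x7170000002)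
def R3_p0 : List ℕ := [nat_lit 0x100d001009,
  nat_lit 0x100d00300b,
  nat_lit 0x100d00500d,
  nat_lit 0x100d00700f,
  nat_lit 0x3001002003003,
  nat_lit 0x1300200101b012,
  nat_lit 0x700400600a003008,
  nat_lit 0x7002006009001008,
  nat_lit 0x1001001001001,
  nat_lit 0x5001003005005,
  nat_lit 0x17002003045006,
  nat_lit 0x6002003008001005,
  nat_lit 0x13002001035002,
  nat_lit 0x15001003021005,
  nat_lit 0x5002006008001006,
  nat_lit 0x1500100700803d016,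
  nat_lit 0x1100500400801d002,
  nat_lit 0x7001004007007,
  nat_lit 0x17002003008049005,
  nat_lit 0x3005004006008006005004,
  nat_lit 0x3006004006005006005003,
  nat_lit 0x400600400500c006005003,
  nat_lit 0x800400300a003007,
  nat_lit 0x8002003009001007,
  nat_lit 0x5007006008008007007006,
  nat_lit 0x5008006008005007007005,
  nat_lit 0x600800600700c007007005,
  nat_lit 0x300800500a007004,
  nat_lit 0x400800800a007003,
  nat_lit 0x1006005008005002,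
  nat_lit 0x2006008008005001,
  nat_lit 0x5001003005005,
  nat_lit 0x1003002004008005003002,
  nat_lit 0x5002006008001006,
  nat_lit 0x200400200300c005003001,
  nat_lit 0x6002003008001005,
  nat_lit 0x2903e00200905f02a,
  nat_lit 0x11008005009025012,
  nat_lit 0x7002006009001008,
  nat_lit 0x7001004007007,
  nat_lit 0x3005004006008006005004,
  nat_lit 0x5003006004007006003006,
  nat_lit 0x1008005009007002,
  nat_lit 0x1003002004008005003002,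
  nat_lit 0x2008008009007001,
  nat_lit 0x2003001003004005004002,
  nat_lit 0x1006005008005002,
  nat_lit 0x3001002003003,
  nat_lit 0x300800500a007004,
  nat_lit 0x3001004002007005001004,
  nat_lit 0x8006008005003007005007,
  nat_lit 0x17002003008051018,
  nat_lit 0x1300700100902b014,
  nat_lit 0x6002003008001005,
  nat_lit 0x3005004006008006005004,
  nat_lit 0x3006004006005006005003,
  nat_lit 0x800400300a003007,
  nat_lit 0x6004006003003006003005,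
  nat_lit 0x11003001004009005039012,
  nat_lit 0x1100400200400500503b014,
  nat_lit 0x13004001003001005023014,
  nat_lit 0x6101700800500300706501a,
  nat_lit 0x600800600700c007007005,
  nat_lit 0x1300600800801f014,
  nat_lit 0x5001003005005,
  nat_lit 0x15001003021005,
  nat_lit 0x300800500a007004,
  nat_lit 0x11006005008037002,
  nat_lit 0x1900400300a04301a,
  nat_lit 0x1100500400801d002,
  nat_lit 0x1900200300904101a,
  nat_lit 0x1700300500300b00603f016,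
  nat_lit 0x600300500300b006004006,
  nat_lit 0x3001002003003,
  nat_lit 0x6104000200a06302a,
  nat_lit 0x2005001008032014,
  nat_lit 0x11008005009025012,
  nat_lit 0x3005004006008006005004,
  nat_lit 0x17008005007001007047021,
  nat_lit 0x1100600500804b012,
  nat_lit 0x29002004057047,
  nat_lit 0x1500403703901100400601402b02401f02b01f02301f02301c03c02003600800301300c02d005,
  nat_lit 0x600700600400700200500300200300600300600700600400701201e00300200300e00c02701d,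
  nat_lit 0x1900200402f02d,
  nat_lit 0x3202801e003002006054018,
  nat_lit 0x1c02700200400800504e012,
  nat_lit 0x4a028011003001005050014,
  nat_lit 0x1700801602e00c007055021,
  nat_lit 0x5900100405b055,
  nat_lit 0x3001500801600700705e05a,
  nat_lit 0x404505705f06306601900200400600800200401d02601b04d04c02601b05001700800200401602f04204405d05c05205403200800200400600800400b034012,
  nat_lit 0x3301103300100d06801b,
  nat_lit 0x6700100d001013,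
  nat_lit 0x200400200300c005003001,
  nat_lit 0x300200300600300600700600400700200500300200300600300600700600400700400c005002,
  nat_lit 0x6002003008001005,
  nat_lit 0x3005004006008006005004,
  nat_lit 0x800500700500b007006008,
  nat_lit 0x1006005008005002,
  nat_lit 0x6002003008001005,
  nat_lit 0x5001003005005,
  nat_lit 0x5002006008001006,
  nat_lit 0x3005004006008006005004,
  nat_lit 0x1008005009007002,
  nat_lit 0x5001003005005,
  nat_lit 0x3001004002007005001004,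
  nat_lit 0x600800600700c007007005]
noncomputable def R3 : CE where
  p0 := 0
  F := (Nat.sub (Nat.shiftLeft 1 40) 1)
  masks := [R3_m0, R3_m1, R3_m2, R3_m3, R3_m4, R3_m5, R3_m6, R3_m7]
  gprog := [3, 6, 7, 1, 2, 4, 5, 6, 7, 0, 1, 2, 4, 5, 6, 7, 0, 2, 3, 4, 6]
  cprog := [9, 10, 8, 11, 12, 20, 44, 48]
  sids := [0, 1, 2]
  t0 := R3_t
  s := 12
  progs := [R3_p0]
  O := (Nat.sub (Nat.shiftLeft 1 40) 1)
  yids := [0, 1, 2, 3]
theorem R3_chk : ∃ progs, CE.check { R3 with progs := progs } R3_nets (imOf []) R3_rels [[0], [2], [4]] [[0], [2], [4], [6]] = true :=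
  ⟨R3.progs, by decide +kernel⟩
theorem R3_idx {Γ : Type*} [Group Γ] {g : ℕ → Γ} (hi : InvOk g (imOf [])) (hr : ∀ r ∈ R3_rels, ev g r = 1)
    {H : Subgroup Γ} (hs : ∀ u ∈ ([[0], [2], [4]] : List (List ℕ)), ev g u ∈ H) :
    H.relIndex (gen g [[0], [2], [4], [6]]) ≠ 0 ∧ H.relIndex (gen g [[0], [2], [4], [6]]) ≤ 40 :=
  Reach.relIndex_le R3_model hi hr hs R3_chk (by decide +kernel)

section
variable {Γ : Type*} [Group Γ] {g : ℕ → Γ} (hi : InvOk g (imOf [])) (hr : ∀ r ∈ rels4, ev g r = 1)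
include hi hr

theorem R0_bound : Bound g [[0]] 3 :=
  Bound.of_idx (n := 3) (m := 1) (bound_nil g)
    (R0_idx hi (conseq_sound hi hr (hs := [1]) (by decide +kernel)))

theorem R1_bound : Bound g [[0], [2]] 24 :=
  Bound.of_idx (n := 8) (m := 3) (R0_bound hi hr)
    (R1_idx hi (conseq_sound hi hr (hs := [1, 1025, 4097]) (by decide +kernel)))

theorem R2_bound : Bound g [[0], [2], [4]] 648 :=
  Bound.of_idx (n := 27) (m := 24) (R1_bound hi hr)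
    (R2_idx hi (conseq_sound hi hr (hs := [1, 1025, 2049, 4097, 5121, 7169]) (by decide +kernel)))

theorem R3_bound : Bound g [[0], [2], [4], [6]] 25920 :=
  Bound.of_idx (n := 40) (m := 648) (R2_bound hi hr)
    (R3_idx hi (conseq_sound hi hr (hs := [1, 1025, 2049, 3073, 4097, 5121, 6145, 7169, 8193, 9217, 10241, 11265]) (by decide +kernel)))

end

end CfsgLib.SuzRec
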