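import Mathlib
import Cfsg.Agent.Lib.SuzRec.Data
import Cfsg.Agent.Lib.U43.Model

/-! Words and checks for the recognition of the sporadic Suzuki group (generated). -/

set_option maxRecDepth 100000
set_option Elab.async false
set_option autoImplicit false

namespace CfsgLib.SuzRec

open CfsgLib.CosetEnum

def m0 : ℕ := 68715297843
def mB : ℕ := 16727091
def m5 : ℕ := 1023
def mL : ℕ := 15423
def mC : ℕ := 12598335
def mG : ℕ := 16777203
def top0 : List (List ℕ) := [[0], [4], [10], [22], [12], [24], [26], [28], [30], [32], [34]]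
def hw : List (List ℕ) := [[0], [2], [4], [26, 24, 12, 4, 30, 33, 30, 29, 34, 33, 30, 33, 35], [0, 31, 29, 32, 31, 32, 35, 32], [10], [12], [0, 31, 28, 31, 32, 35, 32], [12, 10, 4, 28, 34], [4, 0, 28, 33, 31, 28, 31, 32], [26, 10, 0, 31, 32, 35, 32, 30, 35], [22], [24], [26], [28], [30], [32], [34]]
def relq : List (List ℕ × ℕ) := [([0, 2, 0, 3, 1, 3], 0), ([2, 4, 2, 5, 3, 5], 108), ([4, 6, 4, 7, 5, 7], 0), ([0, 4, 1, 5], 0), ([0, 6, 1, 7], 0), ([2, 6, 3, 7], 93), ([0, 2, 4, 6, 0, 2, 4, 6, 0, 2, 4, 6, 0, 2, 4, 6, 0, 2, 4, 6], 98)]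
def wsr : List ℕ := [0, 5, 3, 0, 3, 4]
def wur : List ℕ := [3, 4, 7, 4, 2, 7]
def k5 : List ℕ := [28, 31, 32, 35]
def sc : List ℕ := [0, 64, 11, 75, 5, 69, 78, 14]
def L2 : List ℕ := [4, 6, 21, 23, 37, 39, 53, 55, 68, 70, 85, 87, 101, 103, 117, 119]
def L3 : List ℕ := [8, 9, 26, 27, 42, 43, 58, 59, 72, 73, 90, 91, 106, 107, 122, 123]
def L4 : List ℕ := [16, 17, 18, 19, 32, 33, 34, 35, 48, 49, 50, 51, 80, 81, 82, 83, 96, 97, 98, 99, 112, 113, 114, 115]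
def sw : List (List ℕ) := [[8], [15, 8, 14], [14, 8, 15], [16, 8, 20, 6, 8, 20, 17], [15, 16, 8, 20, 6, 8, 20, 17, 14], [14, 16, 8, 20, 6, 8, 20, 17, 15], [6, 8, 18, 6, 8, 18, 6], [15, 6, 8, 18, 6, 8, 18, 6, 14], [14, 6, 8, 18, 6, 8, 18, 6, 15], [26, 24, 4, 0, 8], [15, 26, 24, 4, 0, 8, 14], [14, 26, 24, 4, 0, 8, 15], [26, 24, 10, 0, 16, 8, 20, 6, 8, 20, 17], [15, 26, 24, 10, 0, 16, 8, 20, 6, 8, 20, 17, 14], [14, 26, 24, 10, 0, 16, 8, 20, 6, 8, 20, 17, 15], [26, 24, 10, 4, 6, 8, 18, 6, 8, 18, 6], [15, 26, 24, 10, 4, 6, 8, 18, 6, 8, 18, 6, 14], [14, 26, 24, 10, 4, 6, 8, 18, 6, 8, 18, 6, 15], [], [24], [26], [26, 24]]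
def TT : List ℕ := [4341872588607249346560, 3355681394523835453440, 1747178532330712965120, 4652349556486601444055, 3614774982748196048250, 1176071535574143469485, 2178937194960465373380, 1798359008303345998920, 431475630215357117580, 2901599152692679041825, 3921985349784426676755, 1362157617418991100210, 2547956748922677107190, 2997596114074220978025, 749399115106417460895, 757406583932009445, 588446352849227355, 191488271060891070]
def mu : List ℕ := [15, 16, 17, 0, 1, 2, 12, 13, 14, 6, 7, 8, 9, 10, 11, 3, 4, 5]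
def bs1 : List (List ℕ) := [[0, 0], [0, 6, 0, 6], [2, 6, 2, 6], [6]]
def bs2 : List (List ℕ) := [[0, 0], [0, 6, 1, 6], [0, 2, 6, 2, 6], [0, 8, 1]]
def pi1 : List ℕ := [0, 13, 10, 7, 4, 9, 14, 3, 8, 5, 2, 15, 12, 1, 6, 11]
def pi2 : List ℕ := [0, 12, 8, 4, 3, 15, 11, 7, 2, 14, 10, 6, 1, 13, 9, 5]
def pid : List ℕ := [0, 8, 2, 10, 4, 12, 6, 14, 9, 1, 11, 3, 13, 5, 15, 7]
def gl : List (List ℕ) := [[10, 2, 11], [13, 2, 12], [0], [6], [8]]
def wl1 : List ℕ := [2, 8, 1, 8, 0, 8, 3]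
def wl2 : List ℕ := [2, 0, 3, 0, 2, 2]
def pwl : List (List ℕ) := [[0, 0], [0, 4, 12, 5, 10, 1, 13, 10, 2], [0, 6, 0, 6], [], [], [2, 6, 2, 6], [2, 8, 2, 8], [], [], [], [], [0, 2, 6, 1, 6]]
def gw : List (List ℕ) := [[4, 12, 10], [22, 4], [2, 0, 12, 22, 2, 10, 12, 2, 22, 4, 2, 12, 10, 2, 0, 4, 12, 2], [2, 4, 10, 2, 0, 2, 4, 10, 2], [0, 2, 4, 12, 2, 0, 2, 4, 2, 12, 2], [0, 12, 2, 4, 10, 2, 12, 22, 2, 0, 2, 10, 2, 0, 4, 2], [0, 2, 4, 12, 2, 10, 22, 2, 0, 2, 4, 2, 0, 12, 2, 22], [2, 12, 22, 2, 4, 2, 12, 10, 2, 22, 2, 10, 12, 2]]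
def gq : List (ℕ × List ℕ) := [(12, [4, 14, 8, 22, 8, 15, 22]), (13, [4, 15, 8, 22, 8, 14, 22]), (14, [6, 14, 18, 6, 20]), (15, [14, 17, 8, 15, 20, 6, 20, 6, 8, 14, 16, 18]), (16, [0, 6, 8, 14, 18, 16, 18, 6, 8, 22, 16]), (17, [14, 17, 20, 22, 17, 20])]
def x7 : List ℕ := [2, 4, 10, 12]
def x13 : List ℕ := [0, 2, 4, 2, 6, 8, 10]
def tw : List (List ℕ) := [[], [8], [14, 8, 15], [6, 18, 6], [8, 14, 8, 15], [8, 6, 18, 6], [14, 8, 15, 6, 18, 6], [6, 18, 6, 8], [6, 18, 6, 14, 8, 15], [8, 14, 8, 15, 6, 18, 6], [8, 6, 18, 6, 8], [8, 6, 18, 6, 14, 8, 15], [14, 8, 15, 6, 18, 6, 8], [14, 8, 15, 6, 18, 6, 14, 8, 15], [6, 18, 6, 8, 14, 8, 15], [6, 18, 6, 8, 6, 18, 6], [6, 18, 6, 14, 8, 15, 6, 18, 6], [8, 14, 8, 15, 6, 18, 6, 8], [8, 14, 8, 15, 6, 18, 6, 14, 8, 15], [8, 6, 18, 6, 8, 14, 8, 15], [8, 6, 18, 6, 8, 6, 18, 6], [8, 6, 18, 6, 14, 8, 15, 6, 18, 6], [14, 8, 15, 6, 18, 6, 8, 14, 8, 15],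 [14, 8, 15, 6, 18, 6, 8, 6, 18, 6], [14, 8, 15, 6, 18, 6, 14, 8, 15, 6, 18, 6], [6, 18, 6, 8, 14, 8, 15, 6, 18, 6], [6, 18, 6, 8, 6, 18, 6, 14, 8, 15], [6, 18, 6, 14, 8, 15, 6, 18, 6, 8], [8, 14, 8, 15, 6, 18, 6, 8, 14, 8, 15], [8, 14, 8, 15, 6, 18, 6, 8, 6, 18, 6], [8, 14, 8, 15, 6, 18, 6, 14, 8, 15, 6, 18, 6], [8, 6, 18, 6, 8, 14, 8, 15, 6, 18, 6], [8, 6, 18, 6, 8, 6, 18, 6, 14, 8, 15], [8, 6, 18, 6, 14, 8, 15, 6, 18, 6, 8], [14, 8, 15, 6, 18, 6, 8, 14, 8, 15, 6, 18, 6], [14, 8, 15, 6, 18, 6, 8, 6, 18, 6, 14, 8, 15], [14, 8, 15, 6, 18, 6, 14, 8, 15, 6, 18, 6, 8], [6, 18, 6, 8, 14, 8, 15, 6, 18, 6, 8], [6, 18, 6, 8, 14, 8, 15, 6, 18, 6, 14, 8, 15], [6, 18, 6, 8, 6, 18, 6, 14, 8, 15, 6, 18, 6], [6, 18, 6, 14, 8, 15, 6, 18, 6, 8, 6, 18, 6], [8, 14, 8, 15, 6, 18, 6, 8, 14, 8, 15, 6, 18, 6], [8, 14, 8, 15, 6, 18, 6, 8, 6, 18, 6, 14, 8, 15], [8, 14, 8, 15, 6, 18, 6, 14, 8, 15, 6, 18,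 6, 8], [8, 6, 18, 6, 8, 14, 8, 15, 6, 18, 6, 8], [8, 6, 18, 6, 8, 14, 8, 15, 6, 18, 6, 14, 8, 15], [8, 6, 18, 6, 8, 6, 18, 6, 14, 8, 15, 6, 18, 6], [8, 6, 18, 6, 14, 8, 15, 6, 18, 6, 8, 6, 18, 6], [14, 8, 15, 6, 18, 6, 8, 6, 18, 6, 14, 8, 15, 6, 18, 6], [14, 8, 15, 6, 18, 6, 14, 8, 15, 6, 18, 6, 8, 6, 18, 6], [6, 18, 6, 8, 14, 8, 15, 6, 18, 6, 8, 6, 18, 6], [6, 18, 6, 8, 14, 8, 15, 6, 18, 6, 14, 8, 15, 6, 18, 6], [6, 18, 6, 8, 6, 18, 6, 14, 8, 15, 6, 18, 6, 8], [6, 18, 6, 14, 8, 15, 6, 18, 6, 8, 6, 18, 6, 14, 8, 15], [8, 14, 8, 15, 6, 18, 6, 8, 6, 18, 6, 14, 8, 15, 6, 18, 6], [8, 14, 8, 15, 6, 18, 6, 14, 8, 15, 6, 18, 6, 8, 6, 18, 6], [8, 6, 18, 6, 8, 14, 8, 15, 6, 18, 6, 8, 6, 18, 6], [8, 6, 18, 6, 8, 14, 8, 15, 6, 18, 6, 14, 8, 15, 6, 18, 6], [8, 6, 18, 6, 8, 6, 18, 6, 14, 8, 15, 6, 18, 6, 8], [8, 6, 18, 6, 14, 8, 15, 6, 18, 6, 8, 6, 18, 6, 14, 8, 15], [6, 18, 6, 8, 6, 18, 6, 14,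 8, 15, 6, 18, 6, 8, 6, 18, 6], [6, 18, 6, 14, 8, 15, 6, 18, 6, 8, 6, 18, 6, 14, 8, 15, 6, 18, 6], [8, 6, 18, 6, 8, 6, 18, 6, 14, 8, 15, 6, 18, 6, 8, 6, 18, 6], [8, 6, 18, 6, 14, 8, 15, 6, 18, 6, 8, 6, 18, 6, 14, 8, 15, 6, 18, 6]]
def tn : List (List ℕ) := [[1, 0, 2, 0, 3, 0], [0, 0, 4, 0, 5, 0], [4, 0, 0, 0, 6, 0], [7, 0, 8, 0, 0, 0], [2, 0, 1, 0, 9, 0], [10, 0, 11, 0, 1, 0], [12, 0, 13, 0, 2, 0], [3, 0, 14, 0, 15, 0], [14, 0, 3, 0, 16, 0], [17, 0, 18, 0, 4, 0], [5, 0, 19, 0, 20, 0], [19, 0, 5, 0, 21, 0], [6, 0, 22, 0, 23, 0], [22, 0, 6, 0, 24, 0], [8, 0, 7, 0, 25, 0], [20, 2, 26, 0, 7, 0], [27, 0, 24, 2, 8, 0], [9, 0, 28, 0, 29, 0], [28, 0, 9, 0, 30, 0], [11, 0, 10, 0, 31, 0], [15, 2, 32, 0, 10, 0], [33, 0, 30, 2, 11, 0], [13, 0, 12, 0, 34, 0], [29, 2, 35, 0, 12, 0], [36, 0, 16, 2, 13, 0], [37, 0, 38, 0, 14, 0], [32, 2, 15, 0, 39, 0], [16, 0, 36, 2, 40, 0], [18, 0, 17, 0, 41, 0],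 [23, 2, 42, 0, 17, 0], [43, 0, 21, 2, 18, 0], [44, 0, 45, 0, 19, 0], [26, 2, 20, 0, 46, 0], [21, 0, 43, 2, 47, 0], [45, 2, 44, 2, 22, 0], [42, 2, 23, 0, 48, 0], [24, 0, 27, 2, 49, 0], [25, 0, 41, 2, 50, 0], [41, 2, 25, 0, 51, 0], [52, 0, 51, 2, 26, 0], [50, 2, 53, 0, 27, 0], [38, 2, 37, 2, 28, 0], [35, 2, 29, 0, 54, 0], [30, 0, 33, 2, 55, 0], [31, 0, 34, 2, 56, 0], [34, 2, 31, 0, 57, 0], [58, 0, 57, 2, 32, 0], [56, 2, 59, 0, 33, 0], [59, 2, 56, 0, 35, 0], [57, 0, 58, 2, 36, 0], [40, 2, 54, 0, 37, 0], [55, 0, 39, 2, 38, 0], [39, 0, 55, 2, 60, 0], [54, 2, 40, 0, 61, 0], [53, 2, 50, 0, 42, 0], [51, 0, 52, 2, 43, 0], [47, 2, 48, 0, 44, 0], [49, 0, 46, 2, 45, 0], [46, 0, 49, 2, 62, 0], [48, 2, 47, 0, 63, 0], [62, 0, 63, 2, 52, 0], [63, 0, 62, 2, 53, 0], [60, 0, 61, 2, 58, 0], [61, 0, 60, 2, 59, 0]]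
def tc : List (ℕ × List ℕ × ℕ) := [(0, [], 0), (2, [], 0), (2, [15], 0), (1, [6], 0), (2, [14], 0), (3, [], 0), (3, [], 0), (3, [], 0), (3, [], 0), (3, [], 0), (1, [6, 8], 0), (3, [], 0), (3, [], 0), (1, [6, 8, 15], 0), (3, [], 0), (2, [6, 18, 6], 0), (2, [6, 14, 18, 6], 0), (3, [], 0), (3, [], 0), (3, [], 0), (2, [6, 14, 20, 17, 8, 15], 80), (3, [], 0), (3, [], 0), (3, [], 0), (2, [6, 15, 20, 17, 8], 17), (2, [6, 14, 18, 16], 113), (3, [], 0), (3, [], 0), (1, [6, 8, 14], 0), (3, [], 0), (3, [], 0), (3, [], 0), (3, [], 0), (2, [6, 14, 18, 6, 8], 0), (3, [], 0), (2, [6, 14, 18, 6, 8, 14], 2), (3, [], 0), (3, [], 0), (3, [], 0), (3, [], 0), (3, [], 0), (2, [6, 14, 20, 17, 8], 80), (2, [6, 20, 17], 80), (2, [6, 15, 20, 17], 17), (2, [6, 14, 18, 16, 8], 113), (2, [6, 14, 20, 17], 17), (3, [], 0), (3, [], 0), (3, [], 0), (3, [], 0), (3, [], 0), (3, [], 0), (3, [], 0), (3, [], 0), (2, [6,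 14, 20, 6, 8, 14, 16], 17), (2, [6, 14, 20, 6, 8, 16], 80), (3, [], 0), (2, [6, 14, 20, 16, 8, 16], 80), (3, [], 0), (2, [6, 14, 20, 6, 8, 14, 16, 8], 80), (2, [6, 14, 8, 18, 6, 8, 18, 6], 0), (2, [6, 14, 8, 18, 6, 8, 15, 18, 6], 2), (2, [6, 14, 8, 18, 16, 8, 18, 6], 57), (1, [], 2)]
def cr1 : List (ℕ × List ℕ) := [(0, []), (66, [22]), (65, [12]), (64, [20]), (67, [22, 12]), (3, [22, 20]), (1, [12, 20]), (2, [20, 22])]
def cr2 : List (ℕ × List ℕ) := [(0, []), (113, [22]), (1, [24]), (65, [26]), (48, [22, 24]), (112, [22, 26]), (49, [22, 8]), (64, [24, 26]), (2, [6, 8, 18, 6, 8, 18, 6]), (9, [6, 8, 18, 6, 8, 18, 17]), (72, [6, 8, 18, 6, 8, 20, 16]), (51, [6, 8, 18, 16, 8, 18, 6]), (56, [6, 8, 18, 16, 8, 18, 17]), (121, [6, 8, 18, 16, 8, 20, 16]), (57, [6, 8, 18, 17, 8, 18, 6]), (114, [6, 8, 18, 17, 8, 18, 17]), (115, [6, 8, 18, 17, 8, 20, 16]), (66, [6, 8, 20, 6, 8, 18, 16]), (8, [6,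 8, 20, 6, 8, 20, 6]), (67, [6, 8, 20, 6, 8, 20, 17]), (3, [24, 6, 8, 18, 6, 8, 18, 6]), (50, [24, 6, 8, 18, 16, 8, 18, 6]), (73, [24, 16, 8, 18, 6, 8, 20, 16]), (120, [24, 16, 8, 18, 16, 8, 20, 16])]

/-- The word is trivial in the Suzuki group. -/
noncomputable def fixS (w : List ℕ) : Bool := fixT 11 2047 TS [0, 995, 47, 21, 14] w
/-- The word is trivial in `U₄(3)`. -/
noncomputable def idP (w : List ℕ) : Bool := okM m7 w && fixT 7 127 TP [0, 3, 12, 24] w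
/-- The words are equal in `U₄(3)`. -/
noncomputable def eqP (u v : List ℕ) : Bool := idP (pushI 0 v u)
/-- The action of a letter on the codes. -/
noncomputable def al (l n : ℕ) : ℕ := look 7 127 TA l n
/-- The action of a word on the codes. -/
noncomputable def ar (w : List ℕ) : ℕ → ℕ := run 7 127 TA w
/-- The word has letters in `M` and is trivial. -/
noncomputable def idM (M : ℕ) (w : List ℕ) : Bool := okM M w && fixS w
/-- The word has letters in `M` and is not trivial. -/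
noncomputable def neM (M : ℕ) (w : List ℕ) : Bool := okM M w && !fixS w
/-- The words are equal. -/
noncomputable def eqM (M : ℕ) (u v : List ℕ) : Bool := idM M (pushI 0 v u)
/-- The words are different. -/
noncomputable def nqM (M : ℕ) (u v : List ℕ) : Bool := neM M (pushI 0 v u)
/-- A letter is put in front if bit `b` of `n` is set. -/
noncomputable def selw (b n l : ℕ) (r : List ℕ) : List ℕ :=
  Bool.rec (l :: r) r (Nat.beq (Nat.land n b) 0)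
/-- The word of a code. -/
noncomputable def qw (n : ℕ) : List ℕ :=
  selw 32 n 26 (selw 16 n 24 (selw 8 n 12 (selw 4 n 22 (selw 2 n 10 (selw 1 n 4 (selw 64 n 0 []))))))
/-- The codes commute. -/
noncomputable def cb (m n : ℕ) : Bool := Nat.beq (qm m n) (qm n m)
/-- Disjunction over `0, …, n - 1`. -/
noncomputable def anyN (n : ℕ) (p : ℕ → Bool) : Bool := !allN n fun i => !p i
/-- Shift of the letters. -/
noncomputable def sh (w : List ℕ) : List ℕ := mapL (Nat.add 28) w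
/-- The words of the elements of `SL₂(3)`. -/
noncomputable def fw (a : ℕ) : List ℕ := qw (nth 0 sc (a % 8)) ++ List.replicate (a / 8) 16
/-- The first five generators of `U₄(3)`. -/
noncomputable def topB : List (List ℕ) := [fw 2, fw 4, fw 8, [18], [20]]
/-- Lift of a word in the first five generators of `U₄(3)`. -/
noncomputable def lift (w : List ℕ) : List ℕ := expand 0 topB w
/-- A word if bit `b` of `n` is set. -/
noncomputable def selL (b n : ℕ) (w : List ℕ) : List ℕ := Bool.rec w [] (Nat.beq (Nat.land n b) 0)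
/-- Products of four words. -/
noncomputable def bitsw (b : List (List ℕ)) (n : ℕ) : List ℕ :=
  selL 1 n (nth [] b 0) ++ selL 2 n (nth [] b 1) ++ selL 4 n (nth [] b 2) ++ selL 8 n (nth [] b 3)
/-- The elements of the elementary group of order 16. -/
noncomputable def aw (n : ℕ) : List ℕ := bitsw [[0], [4], [10], [18]] n
/-- The eighteen involutions. -/
noncomputable def ew (j : ℕ) : List ℕ := nth [] sw j
/-- Their commutators. -/
noncomputable def tt (i j : ℕ) : ℕ := look 4 15 TT i j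
/-- The action of `y` on them. -/
def nu (j : ℕ) : ℕ := 3 * (j / 3) + (j + 1) % 3
/-- Commutator of words. -/
noncomputable def cmw (u v : List ℕ) : List ℕ := u ++ v ++ iw u ++ iw v
/-- Conjugate of a word. -/
noncomputable def cjw (u v : List ℕ) : List ℕ := u ++ v ++ iw u

theorem qgen_ok : allN 128 (fun m => allL (fun p : ℕ × ℕ => eqM mH (qw m ++ [p.1]) (qw (qm m p.2)))
    [(26, 32), (24, 16), (12, 8), (22, 4), (10, 2), (4, 1), (0, 64)]) = true := by decide +kernel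
theorem qas_ok : allN 128 (fun m => Nat.beq (qm m 0) m && allN 128 fun n => Nat.beq
    (qm (qm (qm (qm (qm (qm (qm m (sel 32 n 32)) (sel 16 n 16)) (sel 8 n 8)) (sel 4 n 4)) (sel 2 n 2))
      (sel 1 n 1)) (sel 64 n 64)) (qm m n)) = true := by decide +kernel
theorem qne_ok : allN 128 (fun n => Nat.beq n 0 || neM mH (qw n)) = true := by decide +kernel
theorem qinj_ok : allN 128 (fun n => Nat.beq (qm n (qm n (qm n n))) 0 && allN 128 fun m =>
    Nat.beq m n || !Nat.beq (qm m (qm n (qm n n))) 0) = true := by decide +kernel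
theorem qes_ok : allN 128 (fun m => cb m 64 && (Nat.beq m 0 || Nat.beq m 64 ||
    !allL (cb m) [1, 2, 4, 8, 16, 32]) && allN 128 fun n =>
      cb m n || Nat.beq (qm m n) (qm 64 (qm n m))) = true := by decide +kernel
theorem act_ok : allN 36 (fun l => !memB mH l || (allL (fun c =>
    eqM mH (iw [l] ++ qw c ++ [l]) (qw (al l c))) [1, 2, 4, 8, 16, 32, 64] && Nat.beq (al l 64) 64 &&
    allN 128 fun n => Nat.beq (lin (al l 1) (al l 2) (al l 4) (al l 8) (al l 16) (al l 32) n)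
      (al l n))) = true := by decide +kernel
theorem hw_ok : allN 18 (fun i => Nat.beq i 1 || (okM m0 (nth [] hw i) &&
    eqM mH [2 * i] (nth [] hw i))) = true := by decide +kernel
theorem orb1_ok : force (bfs QN topH sch1 (Nat.shiftLeft 1 1)) (fun O => allN 128 fun n =>
    !Nat.beq (qm n n) 0 || Nat.beq n 0 || Nat.beq n 64 || memB O n) = true := by decide +kernel
theorem orb16_ok : force (bfs QN topH sch16 (Nat.shiftLeft 1 16)) (fun O => allN 128 fun n =>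
    Nat.beq (qm n n) 0 || memB O n) = true := by decide +kernel
theorem orb32_ok : force (bfs QN ws32 sch32 (Nat.shiftLeft 1 32)) (fun O => allN 128 fun n =>
    Nat.beq (qm n n) 0 || cb n 16 || memB O n) = true := by decide +kernel
theorem relq_ok : allL (fun p : List ℕ × ℕ => Nat.blt p.2 128 && eqM mH (sh p.1) (qw p.2)) relq =
    true := by decide +kernel
theorem k5_ok : allN 128 (fun n => !Nat.beq (qm n n) 0 || !cb n 1 || !cb n (ar k5 n) ||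
    !cb n (ar k5 (ar k5 n)) || Nat.beq n 0 || Nat.beq n 64 || Nat.beq n 1 || Nat.beq n 65) = true := by
  decide +kernel
theorem fmul_ok : ∀ a b : U43.SL, eqM mB (fw a.v ++ fw b.v) (fw (a * b).v) = true ∧
    (a = b ∨ nqM mB (fw a.v) (fw b.v) = true) := by decide +kernel
theorem fcom_ok : ∀ a b : U43.SL,
    eqM mB (fw a.v ++ ([18] ++ fw b.v ++ [18])) ([18] ++ fw b.v ++ [18] ++ fw a.v) = true := by
  decide +kernel
theorem fmeet_ok : ∀ a b : U43.SL, a = 1 ∨ a = U43.SL.o 1 ∨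
    nqM mB (fw a.v) ([18] ++ fw b.v ++ [18]) = true := by decide +kernel
theorem fuc_ok : ∀ a : U43.SL,
    eqM mB ([20] ++ fw a.v ++ [20]) ([18] ++ fw (U43.SL.th a).v ++ [18]) = true := by decide +kernel
theorem mB_ok : allN 36 (fun l => !memB mB l || (eqM mH [l, 14] [14, l] && Nat.beq (al l 16) 16)) =
    true := by decide +kernel
theorem cy_ok : allN 128 (fun n => neM mH (powW (qw n ++ [14]) 3) || Nat.beq n 0 || Nat.beq n 16 ||
    Nat.beq (ar [14] n) 16 || Nat.beq (ar [15] n) 16) = true := by decide +kernel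
theorem lists_ok : allN 128 (fun n =>
    (cb n 1 || !cb n 2 || !Nat.beq (qm n n) 0 || L2.elem n) &&
    (!cb n 1 || cb n 2 || !Nat.beq (qm n n) 0 || L3.elem n) &&
    (!cb n 1 || !cb n 2 || Nat.beq (qm n n) 0 || L4.elem n)) = true := by decide +kernel
theorem u2_ok : allL (fun c => allL (fun d => !cb c d || allL (fun e => !cb c e || !cb d e ||
    allL (fun f => !cb c f || !cb d f || cb e f ||
      !allL (fun n => Nat.beq (lin 1 2 c d e f (lin 1 2 c d e f n)) n && Nat.beq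
        (al 14 (lin 1 2 c d e f (al 14 (lin 1 2 c d e f (al 14 (lin 1 2 c d e f n)))))) n)
        [4, 8, 16, 32] ||
      anyN 22 fun j => Nat.beq (ar (ew j) 4) c && Nat.beq (ar (ew j) 8) d &&
        Nat.beq (ar (ew j) 16) e && Nat.beq (ar (ew j) 32) f) L4) L4) L3) L2 = true := by
  decide +kernel
theorem sw_ok : allN 22 (fun j => okM mH (ew j) && Nat.beq (ar (ew j) 1) 1 && Nat.beq (ar (ew j) 2) 2 &&
    (Nat.blt j 19 && idM mH (powW (ew j ++ [14]) 3) || eqM mH (ew j ++ ew j) [0])) = true := by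
  decide +kernel
theorem ew_ok : allN 18 (fun j => idM mH (ew j ++ ew j) && neM mH (ew j) &&
    idM mH (powW (ew j ++ [14]) 3) && eqM mH ([15] ++ ew j ++ [14]) (ew (nu j)) &&
    eqM mH (iw [16, 18, 16, 18] ++ ew j ++ [16, 18, 16, 18]) (ew (nth 0 mu j)) &&
    allN 16 fun n => eqM mH (ew j ++ aw n) (aw n ++ ew j)) = true := by decide +kernel
theorem tt_ok : allN 18 (fun i => allN 18 fun j => eqM mH (cmw (ew i) (ew j)) (aw (tt i j))) = true := by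
  decide +kernel
theorem aw_ok : allN 16 (fun n => idM mH (aw n ++ aw n) && eqM mH (aw n ++ [14]) ([14] ++ aw n) &&
    allN 16 fun m => Nat.beq m n || nqM mH (aw m) (aw n)) = true := by decide +kernel

/-- The word `x` normalises the conjugate by `k` of the elementary group and acts as `p`. -/
noncomputable def sitOK (k : List ℕ) (b : List (List ℕ)) (x p : List ℕ) : Bool :=
  okM mH k && (eqM mH (cjw k [14]) [14] || eqM mH (cjw k [14]) [15]) && eqM mH (cjw k [8]) [8] &&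
    p.elem 1 && p.elem 2 && p.elem 4 && Nat.beq p.length 16 &&
    allN 16 fun n => okM m5 (bitsw b n) && eqM mH (cjw k (aw n)) (lift (bitsw b n)) &&
      eqP (cjw x (bitsw b n)) (bitsw b (nth 0 p n)) && Nat.blt (nth 0 p n) 16
/-- The action fixes the first triple. -/
noncomputable def triOK (p : List ℕ) : Bool :=
  allN 18 fun i => allN 18 fun j => !Nat.beq (tt i j) (nth 0 p (tt 0 3)) ||
    !Nat.beq (tt i (nu j)) (nth 0 p (tt 0 4)) || Nat.blt i 3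

theorem sit1_ok : (sitOK [] bs1 (nth [] gl 0) pi1 && triOK pi1) = true := by decide +kernel
theorem sit2_ok : (sitOK [6, 17] bs2 (nth [] gl 1) pi2 && triOK pi2) = true := by decide +kernel
theorem sit3_ok : (sitOK [] bs1 [10] pid && allN 18 fun i =>
    !Nat.beq (tt i (nth 0 mu i)) (nth 0 pid (tt 0 15))) = true := by decide +kernel
theorem gw_ok : allN 8 (fun i => okM mC (nth [] gw i) && eqP (expand 0 pwl (nth [] gw i))
    (nth [] [[0], [2], [4], [6], [8], [10], [12], [4, 6, 4, 6]] i)) = true := by decide +kernel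
theorem gq_ok : allL (fun p : ℕ × List ℕ => okM mG p.2 && eqM mH [2 * p.1] p.2) gq = true := by
  decide +kernel
theorem rels_ok : allL (fun r => idM mH r || (okM mL r && idP (expand 0 pwl r)) || r == [2, 6, 2, 6] ||
    r == [2, 8, 2, 8] || r == powW (powW [2, 4, 6, 4, 6] 5 ++ [8]) 3) Suz.S4_rels = true := by
  decide +kernel
theorem relsK_ok : allL (fun r => idM mH r || (okM mL r && idP (expand 0 pwl r)) ||
    r == [2, 6, 2, 6]) Suz.K2_rels = true := by decide +kernel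
theorem tn_ok : allN 64 (fun k => allN 3 fun j => Nat.blt (nth 0 (nth [] tn k) (2 * j)) 64 &&
    Nat.blt (nth 0 (nth [] tn k) (2 * j + 1)) 128 &&
    eqM mH (nth [] tw k ++ nth [] topT (7 + j)) (qw (nth 0 (nth [] tn k) (2 * j + 1)) ++
      nth [] tw (nth 0 (nth [] tn k) (2 * j)))) = true := by decide +kernel
theorem tc_ok : allN 64 (fun k => (fun p : ℕ × List ℕ × ℕ => okM mH (nth [] tw k) &&
    (Nat.blt p.1 3 && Nat.blt p.2.2 128 && okM mH p.2.1 &&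
      eqM mH (cjw p.2.1 (nth [] tw k)) (qw p.2.2 ++ nth [] [[], [18], [8]] p.1) ||
    allN 128 fun n => neM mH (powW (qw n ++ nth [] tw k) 2))) (nth (0, [], 0) tc k)) = true := by
  decide +kernel
theorem cr1_ok : allN 128 (fun n => neM mH (powW (qw n ++ [18]) 2) || cr1.any fun p =>
    Nat.beq p.1 n && okM mH p.2 && eqM mH (cjw p.2 (qw n ++ [18])) [18]) = true := by decide +kernel
theorem cr2_ok : allN 128 (fun n => neM mH (powW (qw n ++ [8]) 2) || cr2.any fun p =>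
    Nat.beq p.1 n && okM mH p.2 && eqM mH (cjw p.2 (qw n ++ [8])) [8]) = true := by decide +kernel
theorem x13_ok : allN 1782 (fun p => Nat.beq p 0 || !Nat.beq (run 11 2047 TS x13 p) p) = true := by
  decide +kernel

end CfsgLib.SuzRec
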